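import Mathlib.CategoryTheory.Abelian.RightDerived
import Mathlib.Algebra.Homology.Augment
import Mathlib.Algebra.Homology.Homotopy
import Mathlib.Algebra.Homology.HomologicalComplexAbelian

/-!
# Enlarging a complex so that its terms lie in a given class

If every term of a cochain complex is a direct summand of some `Y n`, then the complex is homotopy
equivalent to a complex with terms `Y n ⊞ (Y (n-1) ⊞ …)`.
-/

universe v u

open CategoryTheory CategoryTheory.Limits

namespace Groth.Agent.AdaptedAcyclic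

variable {A : Type u} [Category.{v} A] [Abelian A] (L : CochainComplex A ℕ) (Y : ℕ → A)
  (a : ∀ n, L.X n ⟶ Y n) (r : ∀ n, Y n ⟶ L.X n)

noncomputable def Z : ℕ → A
  | 0 => Y 0
  | n + 1 => Y (n + 1) ⊞ Z n

noncomputable def yin (n : ℕ) : Y (n + 1) ⟶ Z Y (n + 1) := biprod.inl
noncomputable def zin (n : ℕ) : Z Y n ⟶ Z Y (n + 1) := biprod.inr
noncomputable def yout (n : ℕ) : Z Y (n + 1) ⟶ Y (n + 1) := biprod.fst
noncomputable def zout (n : ℕ) : Z Y (n + 1) ⟶ Z Y n := biprod.snd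

@[reassoc (attr := simp)] theorem yin_yout (n : ℕ) : yin Y n ≫ yout Y n = 𝟙 _ := biprod.inl_fst
@[reassoc (attr := simp)] theorem yin_zout (n : ℕ) : yin Y n ≫ zout Y n = 0 := biprod.inl_snd
@[reassoc (attr := simp)] theorem zin_yout (n : ℕ) : zin Y n ≫ yout Y n = 0 := biprod.inr_fst
@[reassoc (attr := simp)] theorem zin_zout (n : ℕ) : zin Y n ≫ zout Y n = 𝟙 _ := biprod.inr_snd

noncomputable def inc : ∀ n, L.X n ⟶ Z Y n
  | 0 => a 0
  | n + 1 => a (n + 1) ≫ yin Y n

noncomputable def ret : ∀ n, Z Y n ⟶ L.X n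
  | 0 => r 0
  | n + 1 => yout Y n ≫ r (n + 1)

noncomputable def qq : ∀ n, Z Y n ⟶ Z Y n
  | 0 => 0
  | n + 1 => zout Y n ≫ (𝟙 _ - ret L Y r n ≫ inc L Y a n - qq n) ≫ zin Y n

noncomputable def pp (n : ℕ) : Z Y n ⟶ Z Y n := 𝟙 _ - ret L Y r n ≫ inc L Y a n - qq L Y a r n

variable (har : ∀ n, a n ≫ r n = 𝟙 _)

include har in
theorem rel : ∀ n, inc L Y a n ≫ ret L Y r n = 𝟙 _ ∧ inc L Y a n ≫ qq L Y a r n = 0 ∧
    qq L Y a r n ≫ ret L Y r n = 0 ∧ qq L Y a r n ≫ qq L Y a r n = qq L Y a r n ∧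
    inc L Y a n ≫ pp L Y a r n = 0 ∧ pp L Y a r n ≫ ret L Y r n = 0 ∧
    pp L Y a r n ≫ pp L Y a r n = pp L Y a r n := by
  suffices h : ∀ n, inc L Y a n ≫ ret L Y r n = 𝟙 _ ∧ inc L Y a n ≫ qq L Y a r n = 0 ∧
      qq L Y a r n ≫ ret L Y r n = 0 ∧ qq L Y a r n ≫ qq L Y a r n = qq L Y a r n by
    intro n
    obtain ⟨h1, h2, h3, h4⟩ := h n
    have h1' : ∀ {W : A} (g : L.X n ⟶ W), inc L Y a n ≫ ret L Y r n ≫ g = g := fun g => by
      rw [← Category.assoc, h1, Category.id_comp]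
    have h3' : ∀ {W : A} (g : L.X n ⟶ W), qq L Y a r n ≫ ret L Y r n ≫ g = 0 := fun g => by
      rw [← Category.assoc, h3, zero_comp]
    refine ⟨h1, h2, h3, h4, ?_, ?_, ?_⟩
    · simp [pp, Preadditive.comp_sub, h1', h2]
    · simp [pp, Preadditive.sub_comp, h1, h3]
    · simp [pp, Preadditive.sub_comp, Preadditive.comp_sub, h1', h2, h3', h4]
  intro n
  induction n with
  | zero => exact ⟨har 0, by simp [qq], by simp [qq], by simp [qq]⟩
  | succ n ih =>
    obtain ⟨h1, h2, h3, h4⟩ := ih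
    have h1' : ∀ {W : A} (g : L.X n ⟶ W), inc L Y a n ≫ ret L Y r n ≫ g = g := fun g => by
      rw [← Category.assoc, h1, Category.id_comp]
    have h2' : ∀ {W : A} (g : Z Y n ⟶ W), inc L Y a n ≫ qq L Y a r n ≫ g = 0 := fun g => by
      rw [← Category.assoc, h2, zero_comp]
    have h3' : ∀ {W : A} (g : L.X n ⟶ W), qq L Y a r n ≫ ret L Y r n ≫ g = 0 := fun g => by
      rw [← Category.assoc, h3, zero_comp]
    have h4' : ∀ {W : A} (g : Z Y n ⟶ W), qq L Y a r n ≫ qq L Y a r n ≫ g = qq L Y a r n ≫ g :=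
      fun g => by rw [← Category.assoc, h4]
    refine ⟨?_, ?_, ?_, ?_⟩
    · simp [inc, ret, har]
    · simp [inc, qq]
    · simp [ret, qq]
    · simp [qq, Preadditive.comp_sub, Preadditive.sub_comp, h1', h2', h3', h4']

noncomputable def dd (n : ℕ) : Z Y n ⟶ Z Y (n + 1) :=
  ret L Y r n ≫ L.d n (n + 1) ≫ inc L Y a (n + 1) + pp L Y a r n ≫ zin Y n

noncomputable def K : CochainComplex A ℕ :=
  CochainComplex.of (Z Y) (dd L Y a r) fun n => by
    obtain ⟨h1, h2, h3, h4, h5, h6, h7⟩ := rel L Y a r har (n + 1)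
    obtain ⟨g1, g2, g3, g4, g5, g6, g7⟩ := rel L Y a r har n
    have h1' : ∀ {W : A} (g : L.X (n + 1) ⟶ W), inc L Y a (n + 1) ≫ ret L Y r (n + 1) ≫ g = g :=
      fun g => by rw [← Category.assoc, h1, Category.id_comp]
    have h5' : ∀ {W : A} (g : Z Y (n + 1) ⟶ W), inc L Y a (n + 1) ≫ pp L Y a r (n + 1) ≫ g = 0 :=
      fun g => by rw [← Category.assoc, h5, zero_comp]
    have e1 : zin Y n ≫ ret L Y r (n + 1) = 0 := by simp [ret]
    have e1' : ∀ {W : A} (g : L.X (n + 1) ⟶ W), zin Y n ≫ ret L Y r (n + 1) ≫ g = 0 :=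
      fun g => by rw [← Category.assoc, e1, zero_comp]
    have e2 : ∀ {W : A} (g : Z Y (n + 1) ⟶ W),
        pp L Y a r n ≫ zin Y n ≫ pp L Y a r (n + 1) ≫ g = 0 := by
      intro W g
      have h : zin Y n ≫ pp L Y a r (n + 1) = zin Y n - pp L Y a r n ≫ zin Y n := by
        conv_lhs => arg 2; rw [pp]
        simp [Preadditive.comp_sub, e1', qq, pp]
      rw [← Category.assoc (zin Y n), h, ← Category.assoc, Preadditive.comp_sub,
        ← Category.assoc (pp L Y a r n), g7, sub_self, zero_comp]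
    simp [dd, h1', h5', e1', e2]

theorem K_X (n : ℕ) : (K L Y a r har).X n = Z Y n := rfl

theorem Z_mem (𝒪 : ObjectProperty A) (h0 : ∀ X Y : A, 𝒪 X → 𝒪 Y → 𝒪 (X ⊞ Y))
    (hY : ∀ n, 𝒪 (Y n)) : ∀ n, 𝒪 (Z Y n)
  | 0 => hY 0
  | n + 1 => h0 _ _ (hY _) (Z_mem 𝒪 h0 hY n)

theorem K_d (n : ℕ) : (K L Y a r har).d n (n + 1) = dd L Y a r n := CochainComplex.of_d _ _ n

include har in
theorem inc_dd (i : ℕ) : inc L Y a i ≫ dd L Y a r i = L.d i (i + 1) ≫ inc L Y a (i + 1) := by
  obtain ⟨h1, h2, h3, h4, h5, h6, h7⟩ := rel L Y a r har i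
  rw [dd, Preadditive.comp_add, ← Category.assoc, h1, Category.id_comp, ← Category.assoc, h5, zero_comp,
    add_zero]

include har in
theorem dd_ret (i : ℕ) : dd L Y a r i ≫ ret L Y r (i + 1) = ret L Y r i ≫ L.d i (i + 1) := by
  obtain ⟨h1, -⟩ := rel L Y a r har (i + 1)
  have e1 : zin Y i ≫ ret L Y r (i + 1) = 0 := by simp [ret]
  rw [dd, Preadditive.add_comp, Category.assoc, Category.assoc, Category.assoc, h1, e1, Category.comp_id,
    comp_zero, add_zero]

noncomputable def incK : L ⟶ K L Y a r har where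
  f := inc L Y a
  comm' i j hij := by
    obtain rfl : i + 1 = j := hij
    rw [K_d]; exact inc_dd L Y a r har i

noncomputable def retK : K L Y a r har ⟶ L where
  f := ret L Y r
  comm' i j hij := by
    obtain rfl : i + 1 = j := hij
    rw [K_d]; exact (dd_ret L Y a r har i).symm

noncomputable def homEquiv : HomotopyEquiv L (K L Y a r har) where
  hom := incK L Y a r har
  inv := retK L Y a r har
  homotopyHomInvId := Homotopy.ofEq (HomologicalComplex.hom_ext _ _ fun n => (rel L Y a r har n).1)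
  homotopyInvHomId := by
    refine (Homotopy.equivSubZero.symm ?_).symm
    let h : ∀ i j, (ComplexShape.up ℕ).Rel j i → ((K L Y a r har).X i ⟶ (K L Y a r har).X j) :=
      fun i j hij => by obtain rfl : j + 1 = i := hij; exact zout Y j ≫ pp L Y a r j
    have e : 𝟙 (K L Y a r har) - retK L Y a r har ≫ incK L Y a r har =
        Homotopy.nullHomotopicMap' h := by
      ext n
      obtain ⟨h1, h2, h3, h4, h5, h6, h7⟩ := rel L Y a r har n
      have hd : dd L Y a r n ≫ zout Y n ≫ pp L Y a r n =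
          pp L Y a r n := by
        have e1 : inc L Y a (n + 1) ≫ zout Y n = 0 := by simp [inc]
        simp [dd, inc, h7]
      rw [HomologicalComplex.sub_f_apply, HomologicalComplex.id_f, HomologicalComplex.comp_f]
      cases n with
      | zero =>
        rw [Homotopy.nullHomotopicMap'_f_of_not_rel_right (show (ComplexShape.up ℕ).Rel 0 1 from rfl)
          (fun l hl => Nat.succ_ne_zero l hl), K_d]
        refine Eq.trans ?_ hd.symm
        simp [pp, qq, incK, retK, K_X]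
        rfl
      | succ m =>
        obtain ⟨g1, g2, g3, g4, g5, g6, g7⟩ := rel L Y a r har m
        rw [Homotopy.nullHomotopicMap'_f (show (ComplexShape.up ℕ).Rel m (m + 1) from rfl)
          (show (ComplexShape.up ℕ).Rel (m + 1) (m + 2) from rfl), K_d, K_d]
        have hq : (zout Y m ≫ pp L Y a r m) ≫ dd L Y a r m =
            qq L Y a r (m + 1) := by
          simp only [dd, Preadditive.comp_add, Category.assoc]
          rw [← Category.assoc (pp L Y a r m) (ret L Y r m), g6, zero_comp, comp_zero, zero_add,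
            ← Category.assoc (pp L Y a r m) (pp L Y a r m), g7]
          rfl
        refine Eq.trans ?_ (congrArg₂ (· + ·) hd hq).symm
        exact (sub_add_cancel _ _).symm
    rw [e]
    exact Homotopy.nullHomotopy' h

theorem exists_adapted (𝒪 : ObjectProperty A) (h0 : ∀ X Y : A, 𝒪 X → 𝒪 Y → 𝒪 (X ⊞ Y))
    (hL : ∀ n, ∃ (Y : A) (a : L.X n ⟶ Y) (r : Y ⟶ L.X n), 𝒪 Y ∧ a ≫ r = 𝟙 _) :
    ∃ (K : CochainComplex A ℕ) (_ : HomotopyEquiv L K), ∀ n, 𝒪 (K.X n) := by
  choose Y a r hY har using hL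
  exact ⟨_, homEquiv L Y a r har, Z_mem Y 𝒪 h0 hY⟩

theorem acyclic_of_homotopyEquiv {A : Type*} [Category A] [Abelian A] {ι : Type*} {c : ComplexShape ι}
    {P Q : HomologicalComplex A c} (e : HomotopyEquiv P Q) (h : P.Acyclic) : Q.Acyclic := fun i =>
  (HomologicalComplex.exactAt_iff_isZero_homology _ _).mpr
    (((HomologicalComplex.exactAt_iff_isZero_homology _ _).mp (h i)).of_iso (e.toHomologyIso i).symm)

end Groth.Agent.AdaptedAcyclic
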